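import Cfsg.Agent.Lib.Cert.A6.M
import Cfsg.Agent.Lib.Cert.Sch4

set_option autoImplicit false
set_option maxRecDepth 100000

namespace Cfsg.Agent.Ct.A6s.C2

open Cfsg.Agent.PC

open Cfsg.Agent.Fi Cfsg.Agent.Ct
def Ef_t : TN := (TN.leaf (nat_lit 0x993e2c79129eb05d094264478d417e60a3b7241b8e6a299ad0cac2254208e802e4c689993e03e74e194b92aa3c548721a75259eae60dc90e18d4a885a69184427c119004458795127c27b364b969196c04afcea63ee8b9862d88135cc852954190230824d8c2a3c0039b3a246932de315f0d4a7467cdc07c64aba7045b0f682d92c0ea82a4400ce012c486089b3a0bf76e59ca90ae3444a76126505de2f62d898f1ad0a09586d10540781980240506971674379324386b1d64148f8e273cecb1960dc8925ecc5a8561d0a20a20d0d28380829d3244288f2532811953a58d9f2e34d1c262870f20305982248a04061c4880c14080049d3214a791a43e6511c2a68b201a60d9d145058c20449171e389860a1c203122000202))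
noncomputable def Ef (i : ℕ) : ℕ := get9 Ef_t (nat_lit 7) (nat_lit 127) i
noncomputable def E (j c : ℕ) : ℕ := Ef (Nat.add (Nat.mul j (nat_lit 40)) c)
def iw (i : ℕ) : ℕ := Nat.land (Nat.shiftRight (nat_lit 0x8d7d41) (Nat.mul (nat_lit 3) i)) (nat_lit 7)
def ws : List (List ℕ × ℕ) := [([nat_lit 0, nat_lit 0, nat_lit 0], (nat_lit 0)), ([nat_lit 0, nat_lit 2, nat_lit 0, nat_lit 2, nat_lit 0, nat_lit 2], (nat_lit 1)), ([nat_lit 0, nat_lit 3, nat_lit 0, nat_lit 3], (nat_lit 1)), ([nat_lit 2, nat_lit 3, nat_lit 2, nat_lit 3, nat_lit 2, nat_lit 3], (nat_lit 0)), ([nat_lit 0, nat_lit 4, nat_lit 0, nat_lit 4], (nat_lit 1)), ([nat_lit 2, nat_lit 4, nat_lit 2, nat_lit 4], (nat_lit 1)), ([nat_lit 3, nat_lit 4, nat_lit 3, nat_lit 4, nat_lit 3, nat_lit 4], (nat_lit 1)), ([nat_lit 0, nat_lit 1], (nat_lit 0)), ([nat_lit 1, nat_lit 0], (nat_lit 0)), ([nat_lit 2, nat_lit 2], (nat_lit 1)), ([nat_lit 3, nat_lit 3], (nat_lit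 1)), ([nat_lit 4, nat_lit 4], (nat_lit 1))]
noncomputable def f1 : ℕ → ℕ := permE (mT E (nat_lit 2)) iw (nat_lit 80) (nat_lit 8)
noncomputable def f2 : ℕ → ℕ := scE E (nat_lit 2) ws
theorem ca0 : Nat.beq (rng f1 (nat_lit 0) (nat_lit 80)) (nat_lit 0) = true := by decide +kernel
theorem cb0 : Nat.beq (rng f2 (nat_lit 0) (nat_lit 40)) (nat_lit 0) = true := by decide +kernel
theorem h1 : ∀ i < 80, f1 i = 0 := by
  have h := zero_lt_zero f1
  have h := zero_lt_add (a := (nat_lit 0)) (n := (nat_lit 80)) (b := (nat_lit 80)) h ca0 rfl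
  exact h
theorem h2 : ∀ i < 40, f2 i = 0 := by
  have h := zero_lt_zero f2
  have h := zero_lt_add (a := (nat_lit 0)) (n := (nat_lit 40)) (b := (nat_lit 40)) h cb0 rfl
  exact h
theorem lok : LoK (A6.P) 2 := lok_mono A6.top A6.ub A6.iv A6.rl (M := 79) (N := 40) rfl (by decide +kernel) h1 h2
  (u := [nat_lit 4, nat_lit 0]) (v := [nat_lit 3, nat_lit 2, nat_lit 1, nat_lit 3, nat_lit 2, nat_lit 4, nat_lit 3, nat_lit 2]) (by decide +kernel) ((A6.md0).eq (by decide +kernel))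

end Cfsg.Agent.Ct.A6s.C2
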