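import Cfsg.Agent.Lib.Cert.A6.M
import Cfsg.Agent.Lib.Cert.Sch4

set_option autoImplicit false
set_option maxRecDepth 100000

namespace Cfsg.Agent.Ct.A6s.C3

open Cfsg.Agent.PC

open Cfsg.Agent.Fi Cfsg.Agent.Ct
def Ef_t : TN := (TN.leaf (nat_lit 0x16c818034b1e33016683060625e82012f61ca0))
noncomputable def Ef (i : ℕ) : ℕ := get9 Ef_t (nat_lit 5) (nat_lit 31) i
noncomputable def E (j c : ℕ) : ℕ := Ef (Nat.add (Nat.mul j (nat_lit 6)) c)
def iw (i : ℕ) : ℕ := Nat.land (Nat.shiftRight (nat_lit 18049) (Nat.mul (nat_lit 3) i)) (nat_lit 7)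
def ws : List (List ℕ × ℕ) := [([nat_lit 0, nat_lit 0, nat_lit 0], (nat_lit 0)), ([nat_lit 0, nat_lit 2, nat_lit 0, nat_lit 2, nat_lit 0, nat_lit 2], (nat_lit 0)), ([nat_lit 0, nat_lit 3, nat_lit 0, nat_lit 3], (nat_lit 0)), ([nat_lit 2, nat_lit 3, nat_lit 2, nat_lit 3, nat_lit 2, nat_lit 3], (nat_lit 0)), ([nat_lit 0, nat_lit 4, nat_lit 0, nat_lit 4], (nat_lit 2)), ([nat_lit 2, nat_lit 4, nat_lit 2, nat_lit 4], (nat_lit 0)), ([nat_lit 3, nat_lit 4, nat_lit 3, nat_lit 4, nat_lit 3, nat_lit 4], (nat_lit 0)), ([nat_lit 0, nat_lit 1], (nat_lit 0)), ([nat_lit 1, nat_lit 0], (nat_lit 0)), ([nat_lit 2, nat_lit 2], (nat_lit 0)), ([nat_lit 3, nat_lit 3], (nat_lit 0)), ([nat_lit 4, nat_lit 4], (nat_lit 0))]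
noncomputable def f1 : ℕ → ℕ := permE (mT E (nat_lit 3)) iw (nat_lit 18) (nat_lit 5)
noncomputable def f2 : ℕ → ℕ := scE E (nat_lit 3) ws
theorem ca0 : Nat.beq (rng f1 (nat_lit 0) (nat_lit 18)) (nat_lit 0) = true := by decide +kernel
theorem cb0 : Nat.beq (rng f2 (nat_lit 0) (nat_lit 6)) (nat_lit 0) = true := by decide +kernel
theorem h1 : ∀ i < 18, f1 i = 0 := by
  have h := zero_lt_zero f1
  have h := zero_lt_add (a := (nat_lit 0)) (n := (nat_lit 18)) (b := (nat_lit 18)) h ca0 rfl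
  exact h
theorem h2 : ∀ i < 6, f2 i = 0 := by
  have h := zero_lt_zero f2
  have h := zero_lt_add (a := (nat_lit 0)) (n := (nat_lit 6)) (b := (nat_lit 6)) h cb0 rfl
  exact h
theorem lok : LoK (A6.P) 3 := lok_mono A6.top A6.ub A6.iv A6.rl (M := 17) (N := 6) rfl (by decide +kernel) h1 h2
  (u := [nat_lit 3, nat_lit 4]) (v := [nat_lit 0, nat_lit 3, nat_lit 4]) (by decide +kernel) ((A6.md0).eq (by decide +kernel))

end Cfsg.Agent.Ct.A6s.C3
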