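import Cfsg.Agent.Lib.Cert.A6.M
import Cfsg.Agent.Lib.Cert.Sch2

set_option autoImplicit false
set_option maxRecDepth 100000

namespace Cfsg.Agent.Ct.A6s.S2

open Cfsg.Agent.PC

open Cfsg.Agent.Fi Cfsg.Agent.Ct
def W_t : TL := (TL.node (TL.node (TL.node (TL.node (TL.leaf []) (TL.leaf [nat_lit 3])) (TL.leaf [nat_lit 3, nat_lit 2, nat_lit 4, nat_lit 3])) (TL.node (TL.leaf [nat_lit 3]) (TL.leaf [nat_lit 4, nat_lit 0, nat_lit 3, nat_lit 2, nat_lit 0, nat_lit 3, nat_lit 4]))) (TL.node (TL.node (TL.leaf [nat_lit 2, nat_lit 4, nat_lit 3, nat_lit 4, nat_lit 2]) (TL.leaf [nat_lit 3, nat_lit 2, nat_lit 4, nat_lit 3, nat_lit 2, nat_lit 4, nat_lit 0])) (TL.node (TL.leaf [nat_lit 4, nat_lit 0, nat_lit 3, nat_lit 2, nat_lit 0, nat_lit 3, nat_lit 4]) (TL.leaf [nat_lit 4, nat_lit 0, nat_lit 3, nat_lit 2, nat_lit 0, nat_lit 2, nat_lit 3, nat_lit 4]))))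
noncomputable def W (i : ℕ) : List ℕ := TL.get W_t i
def B : List ℕ := [nat_lit 3, nat_lit 2, nat_lit 0, nat_lit 1]
noncomputable def q (j : ℕ) : A6.P := ev A6.al (W j)
noncomputable def Q (j : ℕ) : ℕ → ℕ := trF A6.T (W j)
theorem md : Md A6.pt 6 B q Q 9 := (A6.md0).words' (by decide +kernel)
def I (i : ℕ) : ℕ := Nat.land (Nat.shiftRight (nat_lit 0x24000280000000000000000000000000000000000000000000000000000000000000000000000000000000000000000000000000000000000000000000000000000000000000000000000000000000000007020000000000000000000000000000000000000000000000000000000000000000000000000000000000000000000000000000000000000000000000000000000000000000000000000000000000180000000000000000000000000000000000000000000000000000000000000000000000000000000000000000000000000000000000000000000000000000000000000000000000000000000000000014030000000000000000000000000000000000000000000000000000000000000000000000000000000000000000000000000000000000000000000000000000000000000000000000000000000000001002004000000000000000000000000000000000000000000000000000000000000000000000000000000000000000000000000000000000000000000000000000000000000000000000000000000000000000000)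 (Nat.mul (nat_lit 10) i)) (nat_lit 1023)
def Ru_t : TN := (TN.node (TN.node (TN.node (TN.node (TN.leaf (nat_lit 0)) (TN.leaf (nat_lit 0x102000000000101082))) (TN.leaf (nat_lit 0x43000000000043082))) (TN.node (TN.node (TN.leaf (nat_lit 0x42000000000042082)) (TN.leaf (nat_lit 0x143000000000141082))) (TN.leaf (nat_lit 798722)))) (TN.node (TN.node (TN.node (TN.leaf (nat_lit 266242)) (TN.leaf (nat_lit 0x141000000000143082))) (TN.leaf (nat_lit 0x10830000000000830c2))) (TN.node (TN.leaf (nat_lit 532482)) (TN.leaf (nat_lit 0x101000000000102082)))))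
noncomputable def Ru (i : ℕ) : ℕ := TN.get Ru_t i
def D_t : TN := (TN.node (TN.node (TN.node (TN.node (TN.leaf (nat_lit 0x20000000000000001)) (TN.leaf (nat_lit 0x100000000000000000000000000000000))) (TN.leaf (nat_lit 0x2000000000000000000000003000000000000000000000000000000000000000100000005))) (TN.node (TN.leaf (nat_lit 0x200000000000000000000000000000003000000000000000100000003)) (TN.leaf (nat_lit 0x20000000100000000000000000000000100000007)))) (TN.node (TN.node (TN.leaf (nat_lit 0x200000000000000000000000000000002)) (TN.leaf (nat_lit 0x200000000000000000000000000000001000000000000000000000000000000000000000300000006))) (TN.node (TN.leaf (nat_lit 0x20000000000000000000000000000000000000001000000000000000300000004)) (TN.leaf (nat_lit 0x20000000000000000000000030000000300000008)))))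
noncomputable def D (i : ℕ) : ℕ := TN.get D_t i
def La_t1 : TN := (TN.node (TN.node (TN.node (TN.node (TN.leaf (nat_lit 0x30003000000000300)) (TN.leaf (nat_lit 0x30000000000000000))) (TN.leaf (nat_lit 0x30101000000000000))) (TN.node (TN.node (TN.leaf (nat_lit 0)) (TN.leaf (nat_lit 0))) (TN.leaf (nat_lit 0)))) (TN.node (TN.node (TN.node (TN.leaf (nat_lit 0)) (TN.leaf (nat_lit 0))) (TN.leaf (nat_lit 0))) (TN.node (TN.node (TN.leaf (nat_lit 0)) (TN.leaf (nat_lit 0))) (TN.leaf (nat_lit 0)))))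
def La_t2 : TN := (TN.node (TN.node (TN.node (TN.node (TN.leaf (nat_lit 0)) (TN.leaf (nat_lit 0))) (TN.leaf (nat_lit 0))) (TN.node (TN.node (TN.leaf (nat_lit 0)) (TN.leaf (nat_lit 0))) (TN.leaf (nat_lit 0)))) (TN.node (TN.node (TN.node (TN.leaf (nat_lit 0)) (TN.leaf (nat_lit 0))) (TN.leaf (nat_lit 0))) (TN.node (TN.node (TN.leaf (nat_lit 0)) (TN.leaf (nat_lit 0))) (TN.leaf (nat_lit 0)))))
def La_t3 : TN := (TN.node La_t1 La_t2)
def La_t4 : TN := (TN.node (TN.node (TN.node (TN.node (TN.leaf (nat_lit 0)) (TN.leaf (nat_lit 0x30003000100000300))) (TN.leaf (nat_lit 0))) (TN.node (TN.node (TN.leaf (nat_lit 0)) (TN.leaf (nat_lit 0))) (TN.leaf (nat_lit 0)))) (TN.node (TN.node (TN.node (TN.leaf (nat_lit 0)) (TN.leaf (nat_lit 0))) (TN.leaf (nat_lit 0))) (TN.node (TN.node (TN.leaf (nat_lit 0)) (TN.leaf (nat_lit 0))) (TN.leaf (nat_lit 0)))))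
def La_t5 : TN := (TN.node (TN.node (TN.node (TN.node (TN.leaf (nat_lit 0)) (TN.leaf (nat_lit 0))) (TN.leaf (nat_lit 0))) (TN.node (TN.node (TN.leaf (nat_lit 0)) (TN.leaf (nat_lit 0))) (TN.leaf (nat_lit 0)))) (TN.node (TN.node (TN.node (TN.leaf (nat_lit 0)) (TN.leaf (nat_lit 0))) (TN.leaf (nat_lit 0))) (TN.node (TN.node (TN.leaf (nat_lit 0)) (TN.leaf (nat_lit 0))) (TN.leaf (nat_lit 0)))))
def La_t6 : TN := (TN.node La_t4 La_t5)
def La_t7 : TN := (TN.node La_t3 La_t6)
def La_t8 : TN := (TN.node (TN.node (TN.node (TN.node (TN.leaf (nat_lit 0)) (TN.leaf (nat_lit 0))) (TN.leaf (nat_lit 0x30003000000010300))) (TN.node (TN.node (TN.leaf (nat_lit 0)) (TN.leaf (nat_lit 0))) (TN.leaf (nat_lit 0)))) (TN.node (TN.node (TN.node (TN.leaf (nat_lit 0)) (TN.leaf (nat_lit 0))) (TN.leaf (nat_lit 0))) (TN.node (TN.node (TN.leaf (nat_lit 0)) (TN.leaf (nat_lit 0))) (TN.leaf (nat_lit 0)))))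
def La_t9 : TN := (TN.node (TN.node (TN.node (TN.node (TN.leaf (nat_lit 0)) (TN.leaf (nat_lit 0))) (TN.leaf (nat_lit 0))) (TN.node (TN.node (TN.leaf (nat_lit 0)) (TN.leaf (nat_lit 0))) (TN.leaf (nat_lit 0)))) (TN.node (TN.node (TN.node (TN.leaf (nat_lit 0)) (TN.leaf (nat_lit 0))) (TN.leaf (nat_lit 0))) (TN.node (TN.node (TN.leaf (nat_lit 0)) (TN.leaf (nat_lit 0))) (TN.leaf (nat_lit 0)))))
def La_t10 : TN := (TN.node La_t8 La_t9)
def La_t11 : TN := (TN.node (TN.node (TN.node (TN.node (TN.leaf (nat_lit 0)) (TN.leaf (nat_lit 0))) (TN.leaf (nat_lit 0))) (TN.node (TN.node (TN.leaf (nat_lit 0)) (TN.leaf (nat_lit 0))) (TN.leaf (nat_lit 0)))) (TN.node (TN.node (TN.node (TN.leaf (nat_lit 0)) (TN.leaf (nat_lit 0))) (TN.leaf (nat_lit 0))) (TN.node (TN.node (TN.leaf (nat_lit 0)) (TN.leaf (nat_lit 0))) (TN.leaf (nat_lit 0)))))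
def La_t12 : TN := (TN.node (TN.node (TN.node (TN.node (TN.leaf (nat_lit 0)) (TN.leaf (nat_lit 0))) (TN.leaf (nat_lit 0))) (TN.node (TN.node (TN.leaf (nat_lit 0)) (TN.leaf (nat_lit 0))) (TN.leaf (nat_lit 0)))) (TN.node (TN.node (TN.node (TN.leaf (nat_lit 0)) (TN.leaf (nat_lit 0))) (TN.leaf (nat_lit 0))) (TN.node (TN.node (TN.leaf (nat_lit 0)) (TN.leaf (nat_lit 0))) (TN.leaf (nat_lit 0)))))
def La_t13 : TN := (TN.node La_t11 La_t12)
def La_t14 : TN := (TN.node La_t10 La_t13)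
def La_t : TN := (TN.node La_t7 La_t14)
noncomputable def La (i : ℕ) : ℕ := TN.get La_t i
def Le_t : TN := (TN.leaf (nat_lit 768))
noncomputable def Le (i : ℕ) : ℕ := TN.get Le_t i
def C_t1 : TN := (TN.node (TN.node (TN.node (TN.node (TN.leaf (nat_lit 0)) (TN.leaf (nat_lit 0))) (TN.node (TN.leaf (nat_lit 0)) (TN.leaf (nat_lit 0)))) (TN.node (TN.node (TN.leaf (nat_lit 0)) (TN.leaf (nat_lit 0))) (TN.node (TN.leaf (nat_lit 0)) (TN.leaf (nat_lit 0))))) (TN.node (TN.node (TN.node (TN.leaf (nat_lit 0)) (TN.leaf (nat_lit 0))) (TN.node (TN.leaf (nat_lit 0)) (TN.leaf (nat_lit 0)))) (TN.node (TN.node (TN.leaf (nat_lit 0)) (TN.leaf (nat_lit 0))) (TN.node (TN.leaf (nat_lit 0)) (TN.leaf (nat_lit 0))))))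
def C_t2 : TN := (TN.node (TN.node (TN.node (TN.node (TN.leaf (nat_lit 0x300000000000000030000000000000000000000000000000000000000)) (TN.leaf (nat_lit 0))) (TN.node (TN.leaf (nat_lit 0)) (TN.leaf (nat_lit 0)))) (TN.node (TN.node (TN.leaf (nat_lit 0)) (TN.leaf (nat_lit 0))) (TN.node (TN.leaf (nat_lit 0)) (TN.leaf (nat_lit 0))))) (TN.node (TN.node (TN.node (TN.leaf (nat_lit 0)) (TN.leaf (nat_lit 0))) (TN.node (TN.leaf (nat_lit 0)) (TN.leaf (nat_lit 0)))) (TN.node (TN.node (TN.leaf (nat_lit 0)) (TN.leaf (nat_lit 0))) (TN.node (TN.leaf (nat_lit 0)) (TN.leaf (nat_lit 0))))))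
def C_t3 : TN := (TN.node C_t1 C_t2)
def C_t4 : TN := (TN.node (TN.node (TN.node (TN.node (TN.leaf (nat_lit 0x10000000000000000000000000000000000000000)) (TN.leaf (nat_lit 0))) (TN.node (TN.leaf (nat_lit 0)) (TN.leaf (nat_lit 0)))) (TN.node (TN.node (TN.leaf (nat_lit 0)) (TN.leaf (nat_lit 0))) (TN.node (TN.leaf (nat_lit 0)) (TN.leaf (nat_lit 0))))) (TN.node (TN.node (TN.node (TN.leaf (nat_lit 0)) (TN.leaf (nat_lit 0))) (TN.node (TN.leaf (nat_lit 0)) (TN.leaf (nat_lit 0)))) (TN.node (TN.node (TN.leaf (nat_lit 0)) (TN.leaf (nat_lit 0))) (TN.node (TN.leaf (nat_lit 0)) (TN.leaf (nat_lit 0))))))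
def C_t5 : TN := (TN.node (TN.node (TN.node (TN.node (TN.leaf (nat_lit 0x3000000000000000000000000000000030000000000000000000000000000000000000000)) (TN.leaf (nat_lit 0))) (TN.node (TN.leaf (nat_lit 0)) (TN.leaf (nat_lit 0)))) (TN.node (TN.node (TN.leaf (nat_lit 0)) (TN.leaf (nat_lit 0))) (TN.node (TN.leaf (nat_lit 0)) (TN.leaf (nat_lit 0))))) (TN.node (TN.node (TN.node (TN.leaf (nat_lit 0)) (TN.leaf (nat_lit 0))) (TN.node (TN.leaf (nat_lit 0)) (TN.leaf (nat_lit 0)))) (TN.node (TN.node (TN.leaf (nat_lit 0)) (TN.leaf (nat_lit 0))) (TN.node (TN.leaf (nat_lit 0)) (TN.leaf (nat_lit 0))))))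
def C_t6 : TN := (TN.node C_t4 C_t5)
def C_t : TN := (TN.node C_t3 C_t6)
noncomputable def C (i : ℕ) : ℕ := TN.get C_t i
def e (i : ℕ) : ℕ := Nat.land (Nat.shiftRight (nat_lit 2) (Nat.mul (nat_lit 2) i)) (nat_lit 3)
def U_t : TL := (TL.node (TL.node (TL.node (TL.leaf [nat_lit 1]) (TL.leaf [nat_lit 5])) (TL.node (TL.leaf [nat_lit 4]) (TL.leaf [nat_lit 2]))) (TL.node (TL.node (TL.leaf [nat_lit 1]) (TL.leaf [nat_lit 5])) (TL.node (TL.leaf [nat_lit 4]) (TL.leaf [nat_lit 2]))))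
noncomputable def U (i : ℕ) : List ℕ := TL.get U_t i
def V1_t : TL := (TL.node (TL.node (TL.node (TL.leaf [nat_lit 2, nat_lit 2]) (TL.leaf [nat_lit 3, nat_lit 3])) (TL.node (TL.leaf [nat_lit 2, nat_lit 2]) (TL.leaf [nat_lit 3, nat_lit 3]))) (TL.node (TL.node (TL.leaf [nat_lit 3, nat_lit 3]) (TL.leaf [nat_lit 1, nat_lit 1])) (TL.node (TL.leaf [nat_lit 1, nat_lit 1]) (TL.leaf [nat_lit 2, nat_lit 3]))))
noncomputable def V1 (i : ℕ) : List ℕ := TL.get V1_t i
def V2_t : TL := (TL.node (TL.node (TL.node (TL.leaf []) (TL.leaf [])) (TL.node (TL.leaf []) (TL.leaf []))) (TL.node (TL.node (TL.leaf []) (TL.leaf [])) (TL.node (TL.leaf []) (TL.leaf [nat_lit 3, nat_lit 2, nat_lit 1]))))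
noncomputable def V2 (i : ℕ) : List ℕ := TL.get V2_t i
def Y_t : TL := (TL.node (TL.node (TL.leaf [nat_lit 3]) (TL.leaf [nat_lit 2])) (TL.leaf [nat_lit 3, nat_lit 1]))
noncomputable def Y (i : ℕ) : List ℕ := TL.get Y_t i
def O_t : TL := (TL.node (TL.node (TL.leaf [nat_lit 0]) (TL.leaf [nat_lit 1])) (TL.leaf [nat_lit 0, nat_lit 5]))
noncomputable def O (i : ℕ) : List ℕ := TL.get O_t i
noncomputable def f1 : ℕ → ℕ := rvE Q B (nat_lit 9) Ru
noncomputable def f2 (j : ℕ) : ℕ := rlE I Ru (nat_lit 11) (nat_lit 4) (U j) (V1 j) (V2 j) (D j)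
noncomputable def f3 : ℕ → ℕ := tgR I Ru (nat_lit 11) (nat_lit 2) (nat_lit 4) C D (nat_lit 9) La
noncomputable def f4 : ℕ → ℕ := chE Q B (nat_lit 6) (nat_lit 9) (nat_lit 3) (nat_lit 6) Y O
theorem ra0 : Nat.beq (rng f1 (nat_lit 0) (nat_lit 11)) (nat_lit 0) = true := by decide +kernel
theorem rb0 : Nat.beq (rng f2 (nat_lit 0) (nat_lit 8)) (nat_lit 0) = true := by decide +kernel
theorem rc0 : Nat.beq (rng f3 (nat_lit 0) (nat_lit 3)) (nat_lit 0) = true := by decide +kernel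
theorem rd0 : Nat.beq (rng f4 (nat_lit 0) (nat_lit 3)) (nat_lit 0) = true := by decide +kernel
theorem h1 : ∀ i < 11, f1 i = 0 := by
  have h := zero_lt_zero f1
  have h := zero_lt_add (a := (nat_lit 0)) (n := (nat_lit 11)) (b := (nat_lit 11)) h ra0 rfl
  exact h
theorem h2 : ∀ i < 8, f2 i = 0 := by
  have h := zero_lt_zero f2
  have h := zero_lt_add (a := (nat_lit 0)) (n := (nat_lit 8)) (b := (nat_lit 8)) h rb0 rfl
  exact h
theorem h3 : ∀ i < 3, f3 i = 0 := by
  have h := zero_lt_zero f3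
  have h := zero_lt_add (a := (nat_lit 0)) (n := (nat_lit 3)) (b := (nat_lit 3)) h rc0 rfl
  exact h
theorem h4 : ∀ i < 3, f4 i = 0 := by
  have h := zero_lt_zero f4
  have h := zero_lt_add (a := (nat_lit 0)) (n := (nat_lit 3)) (b := (nat_lit 3)) h rd0 rfl
  exact h
theorem nok : NoK (A6.P) (2 ^ (1 + 1)) := fun _ _ _ _ h =>
  (md.rv (I := I) (K := 11) rfl ⟨rfl, by decide⟩ (upTo_beq (by decide +kernel)) h1).core h (by norm_num)
    (md.syl (by norm_num) rfl (by decide) h4) (by rw [A6.card]; decide) (n := 4) (s := 1) (e := e) (L := Le) (C := C)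
    ⟨rfl, by decide, rfl, by decide, by decide, rfl, by decide⟩ h2 (upTo_beq (by decide +kernel)) (upTo_beq (by decide +kernel)) h3

end Cfsg.Agent.Ct.A6s.S2
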